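import Groth.Agent.Lib.SliceMod5.Main
import Groth.Agent.Lib.FlatH4.FlatLocus
import Groth.Agent.Lib.FlatH4.InjCrit
import Groth.Agent.Lib.FlatSyz.Kernel
import Mathlib.RingTheory.Spectrum.Prime.Module

/-!
# Openness of regularity on the fibres of a flat module
-/

set_option autoImplicit false

universe u

open TensorProduct RingTheory.Sequence

namespace Groth.Agent.FibRegOpen5

variable {B : Type u} [CommRing B]

section Elementwise

variable (q : Ideal B) [q.IsPrime] {M L : Type u} [AddCommGroup M] [Module B M] [AddCommGroup L] [Module B L]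
  (lm : M →ₗ[B] L) [IsLocalizedModule q.primeCompl lm]

include lm in
theorem mem_of_smul_mem' (J : Ideal B) {s : B} (hs : s ∉ q) {x : L} (h : s • x ∈ J • (⊤ : Submodule B L)) :
    x ∈ J • (⊤ : Submodule B L) := by
  let e := (IsLocalizedModule.map_units lm (⟨s, hs⟩ : q.primeCompl)).unit
  have h1 : (↑e⁻¹ : Module.End B L) (s • x) = x := by
    show (↑e⁻¹ * ↑e : Module.End B L) x = x
    rw [Units.inv_mul]; rfl
  rw [← h1]
  have h2 := Submodule.mem_map_of_mem (f := (↑e⁻¹ : Module.End B L)) h
  rw [Submodule.map_smul''] at h2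
  exact Submodule.smul_mono le_rfl le_top h2

theorem exists_smul_eq_map (J : Ideal B) {x : L} (hx : x ∈ J • (⊤ : Submodule B L)) :
    ∃ u ∉ q, ∃ y ∈ J • (⊤ : Submodule B M), u • x = lm y := by
  refine Submodule.smul_induction_on hx (fun r hr n _ => ?_) ?_
  · obtain ⟨⟨m, u⟩, hu⟩ := IsLocalizedModule.surj q.primeCompl lm n
    exact ⟨u, u.2, r • m, Submodule.smul_mem_smul hr trivial, by rw [smul_comm, map_smul, ← hu]; rfl⟩
  · rintro a b ⟨u, hu, y, hy, h1⟩ ⟨v, hv, z, hz, h2⟩
    refine ⟨u * v, fun h => ((Ideal.IsPrime.mem_or_mem inferInstance h).elim hu hv), v • y + u • z,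
      add_mem (Submodule.smul_mem _ v hy) (Submodule.smul_mem _ u hz), ?_⟩
    rw [map_add, map_smul, map_smul, ← h1, ← h2, smul_add, smul_smul, smul_smul, mul_comm v u]

/-- Membership in `J L`, on elements. -/
theorem map_mem_iff (J : Ideal B) (m : M) :
    lm m ∈ J • (⊤ : Submodule B L) ↔ ∃ s ∉ q, s • m ∈ J • (⊤ : Submodule B M) := by
  constructor
  · intro h
    obtain ⟨u, hu, y, hy, huy⟩ := exists_smul_eq_map q lm J h
    obtain ⟨⟨v, hv⟩, hv'⟩ := (IsLocalizedModule.eq_iff_exists q.primeCompl lm).1
      (show lm (u • m) = lm y by rw [map_smul, huy])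
    refine ⟨v * u, fun h => ((Ideal.IsPrime.mem_or_mem inferInstance h).elim hv hu), ?_⟩
    rw [mul_smul]
    change v • u • m = v • y at hv'
    rw [hv']
    exact Submodule.smul_mem _ v hy
  · rintro ⟨s, hs, hsm⟩
    refine mem_of_smul_mem' q lm J hs ?_
    rw [← map_smul]
    have h2 := Submodule.mem_map_of_mem (f := lm) hsm
    rw [Submodule.map_smul''] at h2
    exact Submodule.smul_mono le_rfl le_top h2

include lm in
/-- Cancellation in `L` modulo `J`, on elements. -/
theorem cancel_iff (J : Ideal B) (g : B) :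
    (∀ x : L, g • x ∈ J • (⊤ : Submodule B L) → x ∈ J • (⊤ : Submodule B L)) ↔
      ∀ m : M, ∀ t ∉ q, t • g • m ∈ J • (⊤ : Submodule B M) → ∃ s ∉ q, s • m ∈ J • (⊤ : Submodule B M) := by
  constructor
  · intro h m t ht htm
    exact (map_mem_iff q lm J m).1 (h _ (by rw [← map_smul, map_mem_iff q lm J]; exact ⟨t, ht, htm⟩))
  · intro h x hx
    obtain ⟨⟨m, u⟩, hu⟩ := IsLocalizedModule.surj q.primeCompl lm x
    refine mem_of_smul_mem' q lm J u.2 ?_
    change (u : B) • x = lm m at hu
    rw [hu, map_mem_iff q lm J]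
    have h1 : lm (g • m) ∈ J • (⊤ : Submodule B L) := by
      rw [map_smul, ← hu, smul_comm]
      exact Submodule.smul_mem _ _ hx
    obtain ⟨t, ht, htm⟩ := (map_mem_iff q lm J _).1 h1
    exact h m t ht htm

end Elementwise

theorem smul_top_mem_map_iff {L : Type u} [AddCommGroup L] [Module B L] (S : Type u) [CommRing S] [Algebra B S]
    [Module S L] [IsScalarTower B S L] (J : Ideal B) (x : L) :
    x ∈ J.map (algebraMap B S) • (⊤ : Submodule S L) ↔ x ∈ J • (⊤ : Submodule B L) := by
  constructor
  · intro hx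
    refine Submodule.smul_induction_on hx (fun r hr n _ => ?_) fun a b ha hb => add_mem ha hb
    induction hr using Submodule.span_induction generalizing n with
    | mem r hr =>
        obtain ⟨a, ha, rfl⟩ := hr
        rw [algebraMap_smul]
        exact Submodule.smul_mem_smul ha trivial
    | zero => rw [zero_smul]; exact zero_mem _
    | add a b _ _ ha hb => rw [add_smul]; exact add_mem (ha n trivial) (hb n trivial)
    | smul c b _ hb => rw [smul_eq_mul, mul_comm, mul_smul]; exact hb _ trivial
  · intro hx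
    refine Submodule.smul_induction_on hx (fun r hr n _ => ?_) fun a b ha hb => add_mem ha hb
    rw [← algebraMap_smul S r n]
    exact Submodule.smul_mem_smul (Ideal.mem_map_of_mem _ hr) trivial

/-- Weak regularity of a sequence on a quotient `L/PL`. -/
theorem isWeaklyRegular_quotient_iff {L : Type u} [AddCommGroup L] [Module B L] (S : Type u) [CommRing S]
    [Algebra B S] [Module S L] [IsScalarTower B S L] (P : Ideal B) (g : List B) :
    IsWeaklyRegular (L ⧸ P.map (algebraMap B S) • (⊤ : Submodule S L)) (g.map (algebraMap B S)) ↔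
      ∀ i, ∀ hi : i < g.length, ∀ x : L, g[i] • x ∈ (P ⊔ Ideal.ofList (g.take i)) • (⊤ : Submodule B L) →
        x ∈ (P ⊔ Ideal.ofList (g.take i)) • (⊤ : Submodule B L) := by
  let N := P.map (algebraMap B S) • (⊤ : Submodule S L)
  have key : ∀ (i : ℕ) (y : L), (Submodule.Quotient.mk y : L ⧸ N) ∈
      Ideal.ofList ((g.map (algebraMap B S)).take i) • (⊤ : Submodule S (L ⧸ N)) ↔
      y ∈ (P ⊔ Ideal.ofList (g.take i)) • (⊤ : Submodule B L) := by
    intro i y
    rw [← List.map_take, ← Ideal.map_ofList, ← Submodule.range_mkQ N, ← Submodule.map_top, ← Submodule.map_smul'',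
      ← Submodule.mkQ_apply, ← Submodule.mem_comap, Submodule.comap_map_mkQ, ← Submodule.sup_smul, ← Ideal.map_sup,
      smul_top_mem_map_iff]
  rw [isWeaklyRegular_iff]
  simp only [List.length_map, List.getElem_map]
  refine forall_congr' fun i => forall_congr' fun hi => ?_
  rw [isSMulRegular_quotient_iff_mem_of_smul_mem]
  constructor
  · intro h x hx
    rw [← key] at hx ⊢
    refine h _ ?_
    rw [← Submodule.Quotient.mk_smul, algebraMap_smul]
    exact hx
  · intro h z hz
    obtain ⟨x, rfl⟩ := Submodule.Quotient.mk_surjective _ z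
    rw [← Submodule.Quotient.mk_smul, algebraMap_smul, key] at hz
    rw [key]
    exact h x hz

variable (A : Type u) [CommRing A] [Algebra A B]

/-- Regularity of the sequence on the fibre at `q`, on elements. -/
def FR (M : Type u) [AddCommGroup M] [Module B M] (g : List B) (q : Ideal B) [q.IsPrime] : Prop :=
  ∀ i, ∀ hi : i < g.length, ∀ m : M, ∀ t ∉ q,
    t • g[i] • m ∈ ((q.comap (algebraMap A B)).map (algebraMap A B) ⊔ Ideal.ofList (g.take i)) • (⊤ : Submodule B M) →
      ∃ s ∉ q, s • m ∈ ((q.comap (algebraMap A B)).map (algebraMap A B) ⊔ Ideal.ofList (g.take i)) • (⊤ : Submodule B M)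

variable {A} {M : Type u} [AddCommGroup M] [Module B M] [Module A M] [IsScalarTower A B M]

theorem fibRegMod_iff (q : Ideal B) [q.IsPrime] (I : Ideal B) (g : B) :
    SliceMod5.FibRegMod q A (M ⧸ I • (⊤ : Submodule B M)) g ↔
      ∀ m : M, ∀ t ∉ q, t • g • m ∈ ((q.comap (algebraMap A B)).map (algebraMap A B) ⊔ I) • (⊤ : Submodule B M) →
        ∃ s ∉ q, s • m ∈ ((q.comap (algebraMap A B)).map (algebraMap A B) ⊔ I) • (⊤ : Submodule B M) := by
  let P := (q.comap (algebraMap A B)).map (algebraMap A B)
  have hmap : ∀ y, (Submodule.Quotient.mk y : M ⧸ I • (⊤ : Submodule B M)) ∈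
      P • (⊤ : Submodule B (M ⧸ I • (⊤ : Submodule B M))) ↔ y ∈ (P ⊔ I) • (⊤ : Submodule B M) := fun y => by
    rw [← Submodule.range_mkQ (I • (⊤ : Submodule B M)), ← Submodule.map_top, ← Submodule.map_smul'',
      ← Submodule.mkQ_apply, ← Submodule.mem_comap, Submodule.comap_map_mkQ, sup_comm, ← Submodule.sup_smul]
  constructor
  · intro h m t ht htm
    obtain ⟨s, hs, hsm⟩ := h (Submodule.Quotient.mk m) t ht (by
      rw [← Submodule.Quotient.mk_smul, ← Submodule.Quotient.mk_smul, hmap]; exact htm)
    exact ⟨s, hs, by rw [← hmap, Submodule.Quotient.mk_smul]; exact hsm⟩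
  · intro h m t ht htm
    obtain ⟨m, rfl⟩ := Submodule.Quotient.mk_surjective _ m
    rw [← Submodule.Quotient.mk_smul, ← Submodule.Quotient.mk_smul, hmap] at htm
    obtain ⟨s, hs, hsm⟩ := h m t ht htm
    exact ⟨s, hs, by rw [← Submodule.Quotient.mk_smul, hmap]; exact hsm⟩

/-- Injectivity of `g` at `q` and a flat cokernel give regularity on the fibre. -/
theorem fibRegMod_of_flat_quotient (q : Ideal B) [q.IsPrime] (g : B) {N : Type u} [AddCommGroup N] [Module B N]
    [Module A N] [IsScalarTower A B N] (π : M →ₗ[B] N) (hπ : Function.Surjective π)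
    (hker : LinearMap.ker π = Ideal.span {g} • (⊤ : Submodule B M))
    (hinj : ∀ m : M, g • m = 0 → ∃ s ∉ q, s • m = 0)
    (hflat : Module.Flat A (LocalizedModule q.primeCompl N)) :
    SliceMod5.FibRegMod q A M g := by
  let p := q.comap (algebraMap A B)
  let lm := LocalizedModule.mkLinearMap q.primeCompl M
  let L := LocalizedModule q.primeCompl M
  let φ := IsLocalizedModule.map q.primeCompl lm (LocalizedModule.mkLinearMap q.primeCompl N) π
  let i : L →ₗ[A] L := (LinearMap.lsmul B L g).restrictScalars A
  have hi : Function.Injective i := by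
    rw [injective_iff_map_eq_zero]
    intro x hx
    obtain ⟨⟨m, u⟩, hu⟩ := IsLocalizedModule.surj q.primeCompl lm x
    change (u : B) • x = lm m at hu
    have h0 : lm (g • m) = 0 := by
      rw [map_smul, ← hu, smul_comm, show g • x = 0 from hx, smul_zero]
    obtain ⟨⟨v, hv⟩, hv'⟩ := (IsLocalizedModule.eq_zero_iff q.primeCompl lm).1 h0
    change v • g • m = 0 at hv'
    rw [smul_comm] at hv'
    obtain ⟨s, hs, hsm⟩ := hinj _ hv'
    have h1 : (s * v * u) • x = 0 := by rw [mul_smul, hu, ← map_smul, mul_smul, hsm, map_zero]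
    refine (IsLocalizedModule.smul_injective lm (⟨s * v * u, ?_⟩ : q.primeCompl))
      (show (s * v * (u : B)) • x = (s * v * (u : B)) • 0 by rw [h1, smul_zero])
    exact fun h => (Ideal.IsPrime.mem_or_mem inferInstance h).elim
      (fun h => (Ideal.IsPrime.mem_or_mem inferInstance h).elim hs hv) u.2
  have hsurj : Function.Surjective φ := IsLocalizedModule.map_surjective q.primeCompl _ _ π hπ
  have hex : Function.Exact i (φ.restrictScalars A) := by
    have he : Function.Exact (LinearMap.lsmul B M g) π := by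
      rw [LinearMap.exact_iff, hker, Submodule.ideal_span_singleton_smul]
      ext x
      simp [Submodule.mem_smul_pointwise_iff_exists]
    have h := IsLocalizedModule.map_exact q.primeCompl lm lm (LocalizedModule.mkLinearMap q.primeCompl N) _ π he
    have heq : IsLocalizedModule.map q.primeCompl lm lm (LinearMap.lsmul B M g) = LinearMap.lsmul B L g :=
      IsLocalizedModule.ext q.primeCompl lm (IsLocalizedModule.map_units lm) (LinearMap.ext fun m => by
        show IsLocalizedModule.map q.primeCompl lm lm (LinearMap.lsmul B M g) (lm m) = g • lm m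
        rw [IsLocalizedModule.map_apply, LinearMap.lsmul_apply, map_smul])
    rw [heq] at h
    exact h
  intro m t ht htm
  haveI : Module.Flat A (LocalizedModule q.primeCompl N) := hflat
  have hT := FlatSyz.lTensor_subtype_injective_of_flat_quotient i hi (φ.restrictScalars A) hex hsurj (A ⧸ p)
  have hpM : ∀ y : M, y ∈ p.map (algebraMap A B) • (⊤ : Submodule B M) ↔ y ∈ p • (⊤ : Submodule A M) := fun y =>
    smul_top_mem_map_iff B p y
  have hpL : ∀ y : L, y ∈ p.map (algebraMap A B) • (⊤ : Submodule B L) ↔ y ∈ p • (⊤ : Submodule A L) := fun y =>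
    smul_top_mem_map_iff B p y
  have hz : ∀ y : L, (1 : A ⧸ p) ⊗ₜ[A] y = 0 ↔ y ∈ p • (⊤ : Submodule A L) := fun y => FlatH4.one_tmul_eq_zero_iff p y
  have h1 : g • lm (t • m) ∈ p • (⊤ : Submodule A L) := by
    rw [← hpL, ← map_smul, smul_comm, map_mem_iff q lm]
    exact ⟨1, fun h => Ideal.IsPrime.ne_top inferInstance ((Ideal.eq_top_iff_one q).2 h), by rwa [one_smul]⟩
  have h2 : lm (t • m) ∈ p • (⊤ : Submodule A L) := by
    rw [← hz] at h1 ⊢
    refine hT ?_
    rw [LinearMap.lTensor_tmul, map_zero]
    exact h1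
  obtain ⟨s, hs, hsm⟩ := (map_mem_iff q lm _ _).1 ((hpL _).2 h2)
  exact ⟨s * t, fun h => (Ideal.IsPrime.mem_or_mem inferInstance h).elim hs ht, by rwa [mul_smul]⟩

/-- For a flat module over a Noetherian base the regularity locus on fibres is open. -/
theorem isOpen_FR [IsNoetherianRing A] [Algebra.FiniteType A B] [Module.Finite B M] [Module.Flat A M] (g : List B) :
    IsOpen {q : PrimeSpectrum B | FR A M g q.asIdeal} := by
  haveI : IsNoetherianRing B := Algebra.FiniteType.isNoetherianRing A B
  haveI : Algebra.FinitePresentation A B := Algebra.FinitePresentation.of_finiteType.1 inferInstance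
  let I := fun i => Ideal.ofList (g.take i) • (⊤ : Submodule B M)
  haveI : ∀ i, Module.FinitePresentation B (M ⧸ I i) := fun i => Module.finitePresentation_of_finite B _
  let fl := fun i => {q : PrimeSpectrum B | Module.Flat A (LocalizedModule q.asIdeal.primeCompl (M ⧸ I i))}
  let K := fun (i : Fin g.length) => LinearMap.ker (LinearMap.lsmul B (M ⧸ I i) g[i])
  have hK : ∀ (i : Fin g.length) (q : PrimeSpectrum B), q ∉ Module.support B (K i) ↔
      ∀ m : M ⧸ I i, g[i] • m = 0 → ∃ s ∉ q.asIdeal, s • m = 0 := by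
    intro i q
    simp only [Module.mem_support_iff', not_exists, not_forall, not_not]
    constructor
    · intro h m hm
      obtain ⟨s, hs, hsm⟩ := h ⟨m, hm⟩
      exact ⟨s, hs, congrArg Subtype.val hsm⟩
    · intro h m
      obtain ⟨s, hs, hsm⟩ := h m.1 m.2
      exact ⟨s, hs, Subtype.ext hsm⟩
  have hset : {q : PrimeSpectrum B | FR A M g q.asIdeal} =
      (⋂ i ∈ Finset.range (g.length + 1), fl i) ∩ ⋂ i : Fin g.length, (Module.support B (K i))ᶜ := by
    ext q
    simp only [Set.mem_inter_iff, Set.mem_iInter, Finset.mem_range, Set.mem_setOf_eq, Set.mem_compl_iff]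
    have hfac : ∀ i (hi : i < g.length), ∃ π : (M ⧸ I i) →ₗ[B] (M ⧸ I (i + 1)), Function.Surjective π ∧
        LinearMap.ker π = Ideal.span {g[i]} • (⊤ : Submodule B (M ⧸ I i)) := by
      intro i hi
      have hI : I (i + 1) = I i ⊔ Ideal.span {g[i]} • ⊤ := by
        show Ideal.ofList (g.take (i + 1)) • _ = _
        rw [List.take_succ_eq_append_getElem hi, Ideal.ofList_append, Ideal.ofList_singleton, Submodule.sup_smul]
      have hle : I i ≤ I (i + 1) := hI.symm ▸ le_sup_left
      refine ⟨Submodule.factor hle, Submodule.factor_surjective hle, ?_⟩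
      have h1 : LinearMap.ker (Submodule.factor hle) = (I (i + 1)).map (I i).mkQ := by
        rw [Submodule.factor, Submodule.mapQ, Submodule.ker_liftQ, LinearMap.ker_comp, Submodule.ker_mkQ]
        simp
      rw [h1, hI, Submodule.map_sup, Submodule.mkQ_map_self, bot_sup_eq, Submodule.map_smul'', Submodule.map_top,
        Submodule.range_mkQ]
    constructor
    · intro h
      have hfl : ∀ i, i < g.length + 1 → q ∈ fl i := by
        intro i
        induction i with
        | zero =>
            intro _
            haveI : IsScalarTower A B (M ⧸ I 0) := inferInstance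
            have h0 : I 0 = ⊥ := by simp [I]
            haveI : Module.Flat A (M ⧸ I 0) :=
              Module.Flat.of_linearEquiv ((Submodule.quotEquivOfEqBot _ h0).restrictScalars A)
            exact (FlatH4.flat_localized_iff q.asIdeal).mpr fun J x hx =>
              ⟨1, one_mem _, by rw [one_smul]; exact Module.Flat.lTensor_preserves_injective_linearMap J.subtype J.injective_subtype (hx.trans (map_zero _).symm)⟩
        | succ i ih =>
            intro hi
            have hi' : i < g.length := by omega
            obtain ⟨π, hπ, hker⟩ := hfac i hi'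
            by_cases hg : g[i] ∈ q.asIdeal
            · exact (SliceMod5.slice_step q.asIdeal g[i] hg (ih (by omega))
                ((fibRegMod_iff q.asIdeal _ _).2 (h i hi')) π hπ hker).2
            · haveI : Subsingleton (LocalizedModule q.asIdeal.primeCompl (M ⧸ I (i + 1))) := by
                rw [LocalizedModule.subsingleton_iff]
                intro y
                obtain ⟨x, rfl⟩ := hπ y
                refine ⟨g[i], hg, ?_⟩
                rw [← map_smul, ← LinearMap.mem_ker, hker]
                exact Submodule.smul_mem_smul (Ideal.mem_span_singleton_self _) trivial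
              exact inferInstanceAs (Module.Flat A (LocalizedModule q.asIdeal.primeCompl (M ⧸ I (i + 1))))
      refine ⟨hfl, fun i => (hK i q).2 fun m hm => ?_⟩
      obtain ⟨π, hπ, hker⟩ := hfac i i.2
      by_cases hg : g[(i : ℕ)] ∈ q.asIdeal
      · have hr := (SliceMod5.slice_step q.asIdeal _ hg (hfl i (by omega))
          ((fibRegMod_iff q.asIdeal _ _).2 (h i i.2)) π hπ hker).1
        have h0 : LocalizedModule.mkLinearMap q.asIdeal.primeCompl (M ⧸ I i) m = 0 :=
          hr.right_eq_zero_of_smul (by rw [← map_smul]; exact (congrArg _ hm).trans (map_zero _))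
        obtain ⟨⟨s, hs⟩, hs'⟩ := (IsLocalizedModule.eq_zero_iff q.asIdeal.primeCompl _).1 h0
        exact ⟨s, hs, hs'⟩
      · exact ⟨g[(i : ℕ)], hg, hm⟩
    · rintro ⟨hfl, hinj⟩ i hi
      obtain ⟨π, hπ, hker⟩ := hfac i hi
      rw [← fibRegMod_iff q.asIdeal]
      exact fibRegMod_of_flat_quotient q.asIdeal g[i] π hπ hker ((hK ⟨i, hi⟩ q).1 (hinj ⟨i, hi⟩))
        (hfl (i + 1) (by omega))
  rw [hset]
  refine IsOpen.inter (isOpen_biInter_finset fun i _ => FlatH4.isOpen_flat_localized_of_isNoetherianRing) ?_
  exact isOpen_iInter_of_finite fun i => Module.isClosed_support.isOpen_compl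

end Groth.Agent.FibRegOpen5
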